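import Cfsg.Agent.H3.RootElements
import Cfsg.Agent.H3.Simple
import Cfsg.Agent.H16.F4

/-! Basic computations with the hermitian form on six dimensions over four elements, kept apart from
the certificates of the Fischer group. -/

set_option autoImplicit false
set_option maxRecDepth 8000
set_option maxHeartbeats 2000000

namespace Cfsg.Agent.H11.U62.Herm

open Matrix Cfsg.Agent.H16

theorem hF : Fintype.card F4 = 2 ^ 2 := F4.card_eq

/-- a vector -/
abbrev V6 : Type := Fin 6 → F4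

/-- vector of a code -/
def dec (c : Nat) (i : Fin 6) : F4 := F4.fromNat (c >>> (2 * (i : Nat)) &&& 3)

/-- the form, expanded -/
def herm6 (u v : V6) : F4 :=
  u 0 * (v 0 * v 0) + u 1 * (v 1 * v 1) + u 2 * (v 2 * v 2) + u 3 * (v 3 * v 3) +
    u 4 * (v 4 * v 4) + u 5 * (v 5 * v 5)

theorem hermForm_eq (u v : V6) : hermForm 6 F4 2 u v = herm6 u v := by
  simp only [hermForm, herm6, Fin.sum_univ_six, sq]

/-- transvection with the given centre, expanded -/
def tmap (v x : V6) (i : Fin 6) : F4 := x i + herm6 x v * v i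

theorem tmap_eq (v x : V6) : unitaryTransvection 6 2 v (1 : F4) *ᵥ x = tmap v x := by
  rw [H3.unitaryTransvection_mulVec, hermForm_eq, one_mul]
  rfl

theorem one_trace : (1 : F4) + 1 ^ 2 = 0 := by decide

theorem dec_surj (v : V6) : ∃ c, c < 4096 ∧ dec c = v := by
  have h : ∀ a b : F4, ∀ c d : F4, ∀ e f : F4, ∀ n, n = a.toNat + 4 * b.toNat + 16 * c.toNat +
      64 * d.toNat + 256 * e.toNat + 1024 * f.toNat →
      n < 4096 ∧ dec n 0 = a ∧ dec n 1 = b ∧ dec n 2 = c ∧ dec n 3 = d ∧ dec n 4 = e ∧ dec n 5 = f := by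
    intro a b c d e f n hn
    subst hn
    revert a b c d e f
    decide +kernel
  obtain ⟨h0, h1, h2, h3, h4, h5, h6⟩ := h (v 0) (v 1) (v 2) (v 3) (v 4) (v 5) _ rfl
  refine ⟨_, h0, funext fun i => ?_⟩
  fin_cases i <;> assumption

theorem su_ext {g g' : SU 6 F4 2}
    (h : ∀ x : V6, (g.1 : Matrix (Fin 6) (Fin 6) F4) *ᵥ x = (g'.1 : Matrix (Fin 6) (Fin 6) F4) *ᵥ x) :
    g = g' :=
  H3.SU_ext (Matrix.ext_of_mulVec_single fun j => h _)

theorem conj_suTrans (g : SU 6 F4 2) {v : V6} (hv : hermForm 6 F4 2 v v = 0) :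
    ∃ hw : hermForm 6 F4 2 ((g.1 : Matrix (Fin 6) (Fin 6) F4) *ᵥ v)
        ((g.1 : Matrix (Fin 6) (Fin 6) F4) *ᵥ v) = 0,
      g * H3.suTrans hF v 1 hv one_trace * g⁻¹ = H3.suTrans hF _ 1 hw one_trace := by
  refine ⟨(H3.mem_SU_iff.1 g.2 v v).trans hv, ?_⟩
  refine su_ext fun x => ?_
  have hgg : (g.1 : Matrix (Fin 6) (Fin 6) F4) *ᵥ ((g⁻¹ : SU 6 F4 2).1 *ᵥ x) = x := by
    rw [Matrix.mulVec_mulVec, ← H3.SU_mul_val, mul_inv_cancel]
    simp
  rw [H3.SU_mul_val, H3.SU_mul_val, ← Matrix.mulVec_mulVec, ← Matrix.mulVec_mulVec]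
  simp only [H3.suTrans, H3.unitaryTransvection_mulVec, Matrix.mulVec_add, Matrix.mulVec_smul, hgg,
    one_mul]
  rw [show hermForm 6 F4 2 ((g⁻¹ : SU 6 F4 2).1 *ᵥ x) v =
      hermForm 6 F4 2 x ((g.1 : Matrix (Fin 6) (Fin 6) F4) *ᵥ v) by
    conv_rhs => rw [← hgg]
    exact (H3.mem_SU_iff.1 g.2 _ v).symm]

theorem suTrans_congr {v w : V6} (h : v = w) (hv : hermForm 6 F4 2 v v = 0)
    (hw : hermForm 6 F4 2 w w = 0) :
    H3.suTrans hF v 1 hv one_trace = H3.suTrans hF w 1 hw one_trace := by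
  subst h
  rfl

theorem smul_trans {s : F4} (hs : s ≠ 0) (v : V6) :
    unitaryTransvection 6 2 (s • v) (1 : F4) = unitaryTransvection 6 2 v (1 : F4) := by
  have h : ∀ s : F4, s ≠ 0 → ∀ a b : F4, s * a * ((s * b) * (s * b)) = a * (b * b) := by decide
  ext i j
  simp only [unitaryTransvection, Matrix.add_apply, Matrix.smul_apply, Matrix.vecMulVec_apply,
    Pi.smul_apply, smul_eq_mul, one_mul, sq, h s hs]

theorem card_psu : Nat.card (PSU 6 F4 2) = 9196830720 := by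
  have h := H3.card_PSU (F := F4) (q := 2) hF (n := 6) (by norm_num)
  rw [H3.card_GU hF] at h
  simp only [Finset.prod_range_succ, Finset.prod_range_zero] at h
  norm_num [Nat.even_iff] at h
  omega

end Cfsg.Agent.H11.U62.Herm
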